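import Cfsg.Agent.H749.Val
import Cfsg.Agent.H254.CopCard
import Cfsg.Agent.S0292
import Cfsg.Agent.S0293
import Cfsg.Agent.S0294
import Cfsg.Agent.S0816
import Cfsg.Agent.S0817
import Cfsg.Agent.S0818

/-!
# The `p`-part of the order and the outer automorphisms of the simple orthogonal groups: bounds (helper674)

* `ordProj_le` : `N ∣ c ∏_{i < n} (q ^ (2 (i + 1)) - 1)`, `p ∤ c`, `f` the order of `q²` modulo `p`, then
  `|N|_p ^ 2 ≤ (3 (q ^ f + 1) ^ 2) ^ (n / f)`;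
* `odd_p`, `plus_p`, `minus_p`, `minus_p'` : the three families;
* `odd_out`, `plus_out`, `minus_out` : `|Out| ≤ q ^ 2`; `plus_out_two`, `minus_out_two` : `|Out| ≤ 2` for `q = 2`;
* `two_mul_le` etc. : the order of `q` modulo `p`.
-/

set_option autoImplicit false
set_option linter.unusedSectionVars false

namespace Cfsg.Agent.H674.BD.OmNum

open Cfsg Cfsg.Agent.H749

section val

variable {p : ℕ} [hp : Fact p.Prime]

/-- `p ^ (2 v_p(w!)) ≤ 3 ^ w` -/
theorem sq_fact_le (hp2 : p ≠ 2) (w : ℕ) : (p ^ w.factorial.factorization p) ^ 2 ≤ 3 ^ w := by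
  have hp3 : 3 ≤ p := by
    have := hp.out.two_le
    omega
  have h1 : (p - 1) * w.factorial.factorization p ≤ w := by
    have h2 := sub_one_mul_padicValNat_factorial (p := p) w
    rw [Nat.factorization_def _ hp.out, h2]
    exact Nat.sub_le _ _
  have h3 : p ^ 2 ≤ 3 ^ (p - 1) := by
    obtain ⟨k, rfl⟩ : ∃ k, p = k + 3 := ⟨p - 3, by omega⟩
    show (k + 3) ^ 2 ≤ 3 ^ (k + 2)
    clear h1 hp hp2 hp3
    induction k with
    | zero => norm_num
    | succ k ih =>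
      have h4 : 3 ^ (k + 1 + 2) = 3 * 3 ^ (k + 2) := by ring
      rw [h4]
      calc (k + 1 + 3) ^ 2 ≤ 3 * (k + 3) ^ 2 := by nlinarith [Nat.zero_le (k * k)]
        _ ≤ 3 * 3 ^ (k + 2) := Nat.mul_le_mul_left _ ih
  calc (p ^ w.factorial.factorization p) ^ 2 = (p ^ 2) ^ w.factorial.factorization p := by
        rw [← pow_mul, ← pow_mul, mul_comm]
    _ ≤ (3 ^ (p - 1)) ^ w.factorial.factorization p := Nat.pow_le_pow_left h3 _
    _ = 3 ^ ((p - 1) * w.factorial.factorization p) := by rw [← pow_mul]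
    _ ≤ 3 ^ w := Nat.pow_le_pow_right (by norm_num) h1

/-- the `p`-part of `q ^ (2 f) - 1` -/
theorem pow_vp_le (hp2 : p ≠ 2) {q f : ℕ} (hq : 2 ≤ q) (hf : 0 < f) :
    p ^ vp p (((q : ℤ) ^ 2) ^ f - 1) ≤ q ^ f + 1 := by
  have hqf : 2 ≤ q ^ f := hq.trans (Nat.le_self_pow hf.ne' q)
  have h1 : ((q : ℤ) ^ 2) ^ f - 1 = ((q ^ f - 1 : ℕ) : ℤ) * ((q ^ f + 1 : ℕ) : ℤ) := by
    rw [Nat.cast_sub (by omega)]
    push_cast
    ring
  have h2 : ((q ^ f - 1 : ℕ) : ℤ) ≠ 0 := by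
    have : 0 < q ^ f - 1 := by omega
    exact_mod_cast this.ne'
  have h3 : ((q ^ f + 1 : ℕ) : ℤ) ≠ 0 := by exact_mod_cast (by omega : q ^ f + 1 ≠ 0)
  rw [h1, vp_mul p h2 h3, vp_natCast, vp_natCast]
  by_cases h4 : p ∣ q ^ f + 1
  · have h5 : ¬ p ∣ q ^ f - 1 := by
      intro h5
      have h6 : p ∣ 2 := by
        have h7 := Nat.dvd_sub h4 h5
        have h8 : q ^ f + 1 - (q ^ f - 1) = 2 := by omega
        rwa [h8] at h7
      exact hp2 ((Nat.prime_dvd_prime_iff_eq hp.out Nat.prime_two).1 h6)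
    rw [Nat.factorization_eq_zero_of_not_dvd h5, zero_add]
    exact Nat.le_of_dvd (by omega) (Nat.ordProj_dvd _ _)
  · rw [Nat.factorization_eq_zero_of_not_dvd h4, add_zero]
    exact (Nat.le_of_dvd (by omega) (Nat.ordProj_dvd (q ^ f - 1) p)).trans (by omega)

/-- **The `p`-part of the order.** -/
theorem ordProj_le (hp2 : p ≠ 2) {q f n c N : ℕ} (hq : 2 ≤ q) (hf : orderOf ((q : ZMod p) ^ 2) = f) (hc : ¬ p ∣ c)
    (hN : N ∣ c * ∏ i ∈ Finset.range n, (q ^ (2 * (i + 1)) - 1)) :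
    (ordProj[p] N) ^ 2 ≤ (3 * (q ^ f + 1) ^ 2) ^ (n / f) := by
  have hc0 : c ≠ 0 := by
    rintro rfl
    exact hc (dvd_zero p)
  have hP0 : ∏ i ∈ Finset.range n, (q ^ (2 * (i + 1)) - 1) ≠ 0 := by
    refine Finset.prod_ne_zero_iff.2 fun i _ => ?_
    have : 1 < q ^ (2 * (i + 1)) := Nat.one_lt_pow (by omega) (by omega)
    omega
  have hx : ∀ i : ℕ, i ≠ 0 → ((q : ℤ) ^ 2) ^ i ≠ 1 := by
    intro i hi h
    rw [← pow_mul] at h
    have h1 : q ^ (2 * i) = 1 := by exact_mod_cast h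
    have : 1 < q ^ (2 * i) := Nat.one_lt_pow (by omega) (by omega)
    omega
  have hfac : N.factorization p ≤ (n / f) * vp p (((q : ℤ) ^ 2) ^ f - 1) + (n / f).factorial.factorization p := by
    have h1 : N.factorization p ≤ (c * ∏ i ∈ Finset.range n, (q ^ (2 * (i + 1)) - 1)).factorization p := by
      have h2 : N ≠ 0 := by
        rintro rfl
        exact mul_ne_zero hc0 hP0 (zero_dvd_iff.1 hN)
      exact (Nat.factorization_le_iff_dvd h2 (mul_ne_zero hc0 hP0)).2 hN p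
    rw [Nat.factorization_mul hc0 hP0, Finsupp.add_apply, Nat.factorization_eq_zero_of_not_dvd hc, zero_add] at h1
    have h2 := vp_prod (p := p) hp2 (x := (q : ℤ) ^ 2) (e := f) (by push_cast; exact hf) hx n
    rw [← h2, ← vp_natCast]
    have h3 : ((∏ i ∈ Finset.range n, (q ^ (2 * (i + 1)) - 1) : ℕ) : ℤ) =
        ∏ i ∈ Finset.range n, (((q : ℤ) ^ 2) ^ (i + 1) - 1) := by
      rw [Nat.cast_prod]
      refine Finset.prod_congr rfl fun i _ => ?_
      rw [Nat.cast_sub (Nat.one_le_pow _ _ (by omega))]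
      push_cast
      rw [← pow_mul]
    rw [vp_natCast, ← h3, vp_natCast]
    exact h1
  set w := n / f with hw
  rcases Nat.eq_zero_or_pos w with hw0 | hw0
  · rw [hw0, Nat.factorial_zero, Nat.factorization_one, Finsupp.coe_zero, Pi.zero_apply, zero_mul, add_zero,
      Nat.le_zero] at hfac
    rw [hfac, hw0, pow_zero, one_pow, pow_zero]
  · have hf0 : 0 < f := by
      rcases Nat.eq_zero_or_pos f with h0 | h0
      · rw [h0, Nat.div_zero] at hw
        omega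
      · exact h0
    set v := vp p (((q : ℤ) ^ 2) ^ f - 1) with hv
    set y := w.factorial.factorization p with hy
    calc (p ^ N.factorization p) ^ 2 ≤ (p ^ (w * v + y)) ^ 2 :=
          Nat.pow_le_pow_left (Nat.pow_le_pow_right hp.out.pos hfac) 2
      _ = ((p ^ v) ^ 2) ^ w * (p ^ y) ^ 2 := by
          rw [pow_add, mul_pow]
          congr 1
          rw [← pow_mul, ← pow_mul, ← pow_mul]
          congr 1
          ring
      _ ≤ ((q ^ f + 1) ^ 2) ^ w * 3 ^ w := Nat.mul_le_mul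
          (Nat.pow_le_pow_left (Nat.pow_le_pow_left (pow_vp_le hp2 hq hf0) 2) w) (sq_fact_le hp2 w)
      _ = (3 * (q ^ f + 1) ^ 2) ^ w := by rw [← mul_pow, mul_comm]

end val

section order

variable {p : ℕ} [hp : Fact p.Prime] {q : ℕ}

theorem orderOf_sq {q e : ℕ} (he : orderOf (q : ZMod p) = e) :
    orderOf ((q : ZMod p) ^ 2) = e / Nat.gcd e 2 := by
  rw [orderOf_pow' _ two_ne_zero, he]

theorem orderOf_sq_odd {e : ℕ} (he : orderOf (q : ZMod p) = e) (ho : Odd e) : orderOf ((q : ZMod p) ^ 2) = e := by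
  rw [orderOf_sq he, (Nat.coprime_two_right.2 ho : Nat.gcd e 2 = 1), Nat.div_one]

theorem orderOf_sq_even {f : ℕ} (he : orderOf (q : ZMod p) = 2 * f) : orderOf ((q : ZMod p) ^ 2) = f := by
  rw [orderOf_sq he, Nat.gcd_eq_right (dvd_mul_right 2 f), Nat.mul_div_cancel_left _ two_pos]

/-- the order of `q` modulo `p` divides `p - 1` -/
theorem orderOf_dvd' (hq : ¬ p ∣ q) : orderOf (q : ZMod p) ∣ p - 1 := by
  apply orderOf_dvd_of_pow_eq_one
  refine ZMod.pow_card_sub_one_eq_one ?_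
  intro h
  exact hq ((ZMod.natCast_eq_zero_iff _ _).1 h)

theorem orderOf_pos' (hq : ¬ p ∣ q) : 0 < orderOf (q : ZMod p) :=
  Nat.pos_of_dvd_of_pos (orderOf_dvd' hq) (Nat.sub_pos_of_lt hp.out.one_lt)

/-- `2 e + 1 ≤ p` for odd `e` -/
theorem le_of_odd (hp2 : p ≠ 2) (hq : ¬ p ∣ q) {e : ℕ} (he : orderOf (q : ZMod p) = e) (ho : Odd e) :
    2 * e + 1 ≤ p := by
  have h1 := orderOf_dvd' hq
  rw [he] at h1
  have h2 : 2 ∣ p - 1 := by
    have := hp.out.eq_one_or_self_of_dvd 2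
    have h3 := hp.out.two_le
    by_contra h4
    apply hp2
    have h5 : 2 ∣ p := by omega
    rcases this h5 with h6 | h6 <;> omega
  have h3 : 2 * e ∣ p - 1 := Nat.Coprime.mul_dvd_of_dvd_of_dvd (Nat.coprime_two_left.2 ho) h2 h1
  have h4 := Nat.le_of_dvd (Nat.sub_pos_of_lt hp.out.one_lt) h3
  have h5 := hp.out.one_lt
  omega

theorem le_of_even (hq : ¬ p ∣ q) {f : ℕ} (he : orderOf (q : ZMod p) = 2 * f) : 2 * f + 1 ≤ p := by
  have h1 := orderOf_dvd' hq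
  rw [he] at h1
  have h4 := Nat.le_of_dvd (Nat.sub_pos_of_lt hp.out.one_lt) h1
  have := hp.out.one_lt
  omega

end order

section fam

variable {F : Type*} [Field F] [Finite F] {m : ℕ} {p : ℕ} [hp : Fact p.Prime]

theorem not_dvd_pow {q : ℕ} (hq : ¬ p ∣ q) (k : ℕ) : ¬ p ∣ q ^ k := fun h => hq (hp.out.dvd_of_dvd_pow h)

theorem sub_one_eq {q : ℕ} (hq : 1 ≤ q) (n : ℕ) : q ^ (2 * n) - 1 = (q ^ n - 1) * (q ^ n + 1) := by
  have h1 : 1 ≤ q ^ n := Nat.one_le_pow _ _ hq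
  have h2 : 1 ≤ q ^ (2 * n) := Nat.one_le_pow _ _ hq
  zify [h1, h2]
  ring

theorem odd_p (hp2 : p ≠ 2) (hm : 3 ≤ m) (ho : Odd (Nat.card F)) (hq : ¬ p ∣ Nat.card F) {f : ℕ}
    (hf : orderOf ((Nat.card F : ZMod p) ^ 2) = f) :
    (ordProj[p] (Nat.card (Cfsg.POmega F (Cfsg.quadFormOdd m F)))) ^ 2 ≤
      (3 * (Nat.card F ^ f + 1) ^ 2) ^ (m / f) := by
  have : Fintype F := Fintype.ofFinite F
  have h1 := S0292.result (F := F) rfl (by rwa [← Nat.card_eq_fintype_card]) m hm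
  rw [← Nat.card_eq_fintype_card] at h1
  exact ordProj_le hp2 Finite.one_lt_card hf (not_dvd_pow hq _) ⟨2, by rw [← h1, mul_comm]⟩

theorem plus_p (hp2 : p ≠ 2) (hm : 4 ≤ m) (hq : ¬ p ∣ Nat.card F) {f : ℕ}
    (hf : orderOf ((Nat.card F : ZMod p) ^ 2) = f) :
    (ordProj[p] (Nat.card (Cfsg.POmega F (Cfsg.quadFormPlus m F)))) ^ 2 ≤
      (3 * (Nat.card F ^ f + 1) ^ 2) ^ (m / f) := by
  have : Fintype F := Fintype.ofFinite F
  have h1 := S0293.result (F := F) rfl m hm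
  rw [← Nat.card_eq_fintype_card] at h1
  obtain ⟨n, rfl⟩ : ∃ n, m = n + 1 := ⟨m - 1, by omega⟩
  have hq1 : 1 < Nat.card F := Finite.one_lt_card
  have h2 := sub_one_eq hq1.le (n + 1)
  refine ordProj_le (n := n + 1) hp2 hq1 hf (not_dvd_pow hq ((n + 1) * (n + 1 - 1))) ?_
  rw [Finset.prod_range_succ, h2]
  refine (Dvd.intro_left _ h1).trans ?_
  rw [Nat.add_sub_cancel]
  exact ⟨Nat.card F ^ (n + 1) + 1, by ring⟩

theorem minus_p (hp2 : p ≠ 2) (hm : 4 ≤ m) (a b : F)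
    (hab : ∀ z₁ z₂ : F, z₁ ^ 2 + a * z₁ * z₂ + b * z₂ ^ 2 = 0 → z₁ = 0 ∧ z₂ = 0) (hq : ¬ p ∣ Nat.card F) {f : ℕ}
    (hf : orderOf ((Nat.card F : ZMod p) ^ 2) = f) :
    (ordProj[p] (Nat.card (Cfsg.POmega F (Cfsg.quadFormMinus (m - 1) F a b)))) ^ 2 ≤
      (3 * (Nat.card F ^ f + 1) ^ 2) ^ (m / f) := by
  have : Fintype F := Fintype.ofFinite F
  have h1 := S0294.result (F := F) rfl m hm a b hab
  rw [← Nat.card_eq_fintype_card] at h1
  obtain ⟨n, rfl⟩ : ∃ n, m = n + 1 := ⟨m - 1, by omega⟩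
  have hq1 : 1 < Nat.card F := Finite.one_lt_card
  have h2 := sub_one_eq hq1.le (n + 1)
  refine ordProj_le (n := n + 1) hp2 hq1 hf (not_dvd_pow hq ((n + 1) * (n + 1 - 1))) ?_
  rw [Finset.prod_range_succ, h2]
  refine (Dvd.intro_left _ h1).trans ?_
  rw [Nat.add_sub_cancel]
  exact ⟨Nat.card F ^ (n + 1) - 1, by ring⟩

/-- the exact version: the factor `q ^ m + 1` is prime to `p` -/
theorem minus_p' (hp2 : p ≠ 2) (hm : 4 ≤ m) (a b : F)
    (hab : ∀ z₁ z₂ : F, z₁ ^ 2 + a * z₁ * z₂ + b * z₂ ^ 2 = 0 → z₁ = 0 ∧ z₂ = 0) (hq : ¬ p ∣ Nat.card F) {f : ℕ}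
    (hf : orderOf ((Nat.card F : ZMod p) ^ 2) = f) (hqm : ¬ p ∣ Nat.card F ^ m + 1) :
    (ordProj[p] (Nat.card (Cfsg.POmega F (Cfsg.quadFormMinus (m - 1) F a b)))) ^ 2 ≤
      (3 * (Nat.card F ^ f + 1) ^ 2) ^ ((m - 1) / f) := by
  have : Fintype F := Fintype.ofFinite F
  have h1 := S0294.result (F := F) rfl m hm a b hab
  rw [← Nat.card_eq_fintype_card] at h1
  refine ordProj_le hp2 Finite.one_lt_card hf (c := Nat.card F ^ (m * (m - 1)) * (Nat.card F ^ m + 1)) ?_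
    (Dvd.intro_left _ h1)
  intro h
  rcases hp.out.dvd_mul.1 h with h | h
  · exact not_dvd_pow hq _ h
  · exact hqm h

end fam

section out

variable {F : Type*} [Field F] [Finite F] {m : ℕ}

theorem card_out_eq {K : Type*} [Group K] [Finite K] [IsSimpleGroup K] (hna : ¬ IsMulCommutative K) {c : ℕ}
    (h : Nat.card (MulAut K) = c * Nat.card K) : Nat.card (Cfsg.Out K) = c :=
  Nat.eq_of_mul_eq_mul_right Nat.card_pos ((Cfsg.Agent.H254.card_out hna).trans h)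

/-- `c f ≤ q ^ 2` -/
theorem out_arith {r f q : ℕ} (hr : r.Prime) (hq : q = r ^ f) {c : ℕ} (hc : c ≤ if r = 2 then 2 else 8) :
    c * f ≤ q ^ 2 := by
  rw [hq, ← pow_mul, mul_comm f 2, pow_mul]
  split_ifs at hc with h
  · subst h
    have h1 : ∀ f : ℕ, 2 * f < 4 ^ f := by
      intro f
      induction f with
      | zero => norm_num
      | succ f ih => rw [pow_succ]; omega
    calc c * f ≤ 2 * f := Nat.mul_le_mul_right _ hc
      _ ≤ (2 ^ 2) ^ f := (h1 f).le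
  · have h3 : 3 ≤ r := by
      have := hr.two_le
      omega
    have h1 : ∀ f : ℕ, 8 * f < 9 ^ f := by
      intro f
      induction f with
      | zero => norm_num
      | succ f ih => rw [pow_succ]; omega
    calc c * f ≤ 8 * f := Nat.mul_le_mul_right _ hc
      _ ≤ 9 ^ f := (h1 f).le
      _ ≤ (r ^ 2) ^ f := Nat.pow_le_pow_left (by nlinarith) f

theorem odd_out (hm : 3 ≤ m) (ho : Odd (Nat.card F)) [IsSimpleGroup (Cfsg.POmega F (Cfsg.quadFormOdd m F))]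
    (hna : ¬ IsMulCommutative (Cfsg.POmega F (Cfsg.quadFormOdd m F))) :
    Nat.card (Cfsg.Out (Cfsg.POmega F (Cfsg.quadFormOdd m F))) ≤ Nat.card F ^ 2 := by
  have : Fintype F := Fintype.ofFinite F
  obtain ⟨r, hchar⟩ := CharP.exists F
  obtain ⟨f, hr, hf⟩ := FiniteField.card F r
  have hrf : Fact r.Prime := ⟨hr⟩
  have hro : Odd r := by
    rw [Nat.card_eq_fintype_card, hf] at ho
    exact (Nat.odd_pow_iff f.pos.ne').1 ho
  have h1 := S0816.result r f f.pos hf hro m hm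
  rw [card_out_eq hna h1]
  refine out_arith hr (by rw [Nat.card_eq_fintype_card, hf]) ?_
  split_ifs <;> norm_num

theorem plus_out (hm : 5 ≤ m) [IsSimpleGroup (Cfsg.POmega F (Cfsg.quadFormPlus m F))]
    (hna : ¬ IsMulCommutative (Cfsg.POmega F (Cfsg.quadFormPlus m F))) :
    Nat.card (Cfsg.Out (Cfsg.POmega F (Cfsg.quadFormPlus m F))) ≤ Nat.card F ^ 2 ∧
      (Nat.card F = 2 → Nat.card (Cfsg.Out (Cfsg.POmega F (Cfsg.quadFormPlus m F))) ≤ 2) := by
  have : Fintype F := Fintype.ofFinite F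
  obtain ⟨r, hchar⟩ := CharP.exists F
  obtain ⟨f, hr, hf⟩ := FiniteField.card F r
  have hrf : Fact r.Prime := ⟨hr⟩
  have h1 := S0817.result r f f.pos hf m (by omega)
  rw [if_neg (by omega : ¬ m = 4), one_mul] at h1
  rw [card_out_eq hna h1]
  constructor
  · refine out_arith hr (by rw [Nat.card_eq_fintype_card, hf]) ?_
    split_ifs <;> norm_num
  · intro h2
    rw [Nat.card_eq_fintype_card, hf] at h2
    have h3 : r = 2 := by
      have h4 : r ∣ 2 := h2 ▸ dvd_pow_self r f.ne_zero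
      exact (Nat.prime_dvd_prime_iff_eq hr Nat.prime_two).1 h4
    subst h3
    have h5 : (f : ℕ) = 1 := by
      have h6 : 2 ^ (f : ℕ) = 2 ^ 1 := by rw [h2]; norm_num
      exact Nat.pow_right_injective le_rfl h6
    rw [if_pos rfl, h5]

theorem minus_out (hm : 4 ≤ m) (a b : F)
    (hab : ∀ z₁ z₂ : F, z₁ ^ 2 + a * z₁ * z₂ + b * z₂ ^ 2 = 0 → z₁ = 0 ∧ z₂ = 0)
    [IsSimpleGroup (Cfsg.POmega F (Cfsg.quadFormMinus (m - 1) F a b))]
    (hna : ¬ IsMulCommutative (Cfsg.POmega F (Cfsg.quadFormMinus (m - 1) F a b))) :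
    Nat.card (Cfsg.Out (Cfsg.POmega F (Cfsg.quadFormMinus (m - 1) F a b))) ≤ Nat.card F ^ 2 ∧
      (Nat.card F = 2 → Nat.card (Cfsg.Out (Cfsg.POmega F (Cfsg.quadFormMinus (m - 1) F a b))) ≤ 2) := by
  have : Fintype F := Fintype.ofFinite F
  obtain ⟨r, hchar⟩ := CharP.exists F
  obtain ⟨f, hr, hf⟩ := FiniteField.card F r
  have hrf : Fact r.Prime := ⟨hr⟩
  have h1 := S0818.result r f f.pos hf m hm a b hab
  rw [card_out_eq hna h1]
  constructor
  · refine out_arith hr (by rw [Nat.card_eq_fintype_card, hf]) ?_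
    split_ifs <;> norm_num
  · intro h2
    rw [Nat.card_eq_fintype_card, hf] at h2
    have h3 : r = 2 := by
      have h4 : r ∣ 2 := h2 ▸ dvd_pow_self r f.ne_zero
      exact (Nat.prime_dvd_prime_iff_eq hr Nat.prime_two).1 h4
    subst h3
    have h5 : (f : ℕ) = 1 := by
      have h6 : 2 ^ (f : ℕ) = 2 ^ 1 := by rw [h2]; norm_num
      exact Nat.pow_right_injective le_rfl h6
    rw [if_pos rfl, h5]

end out

end Cfsg.Agent.H674.BD.OmNum
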