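import Mathlib

/-!
# Singer elements of isometry groups: the order of the centralizer (helper674)

`V = K ⊕ D ⊕ V₀`, `K` a finite extension of `F`, `u = (θ, uD, 1)` preserves a sesquilinear form `L` with
nondegenerate pairing between `K` and `D`, `K = F(θ)`, and no power `r ^ j` maps `θ` to `θ⁻¹`: then a set of maps
which commute with `u` and preserve `L` has at most `|K| |End V₀|` elements.
-/

set_option autoImplicit false

namespace Cfsg.Agent.H674.BD.Singer

open Polynomial

section Bound

variable {F : Type*} [Field F] {V : Type*} [AddCommGroup V] [Module F V] {K : Type*} [Field K] [Algebra F K]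
  {D V₀ : Type*} [AddCommGroup D] [Module F D] [AddCommGroup V₀] [Module F V₀]

/-- The data of a Singer element. -/
structure Dat (e : V ≃ₗ[F] K × D × V₀) (u : V →ₗ[F] V) (θ : K) (τ : F →+* F) (L : V → V → F) : Prop where
  ex : ∃ uD : D →ₗ[F] D, ∀ x d v, u (e.symm (x, d, v)) = e.symm (θ * x, uD d, v)
  pres : ∀ x y, L (u x) (u y) = L x y
  add_left : ∀ x x' y, L (x + x') y = L x y + L x' y
  add_right : ∀ x y y', L x (y + y') = L x y + L x y'
  smul_left : ∀ (a : F) x y, L (a • x) y = τ a * L x y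
  smul_right : ∀ (a : F) x y, L x (a • y) = a * L x y
  nondeg : ∀ d : D, (∀ x : K, L (e.symm (x, 0, 0)) (e.symm (0, d, 0)) = 0) → d = 0

variable {e : V ≃ₗ[F] K × D × V₀} {u : V →ₗ[F] V} {θ : K} {τ : F →+* F} {L : V → V → F}

theorem aeval_apply {uD : D →ₗ[F] D}
    (hu : ∀ x d v, u (e.symm (x, d, v)) = e.symm (θ * x, uD d, v)) (f : F[X]) (x : K) (d : D) (v : V₀) :
    aeval u f (e.symm (x, d, v)) = e.symm (aeval θ f * x, aeval uD f d, f.eval 1 • v) := by
  have key : ∀ n : ℕ, ∀ x d v, (u ^ n) (e.symm (x, d, v)) = e.symm (θ ^ n * x, (uD ^ n) d, v) := by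
    intro n
    induction n with
    | zero => intro x d v; simp
    | succ n ih =>
      intro x d v
      rw [pow_succ', Module.End.mul_apply, ih, hu]
      congr 2
      · rw [pow_succ']; ring
      · rw [pow_succ', Module.End.mul_apply]
  induction f using Polynomial.induction_on' with
  | add p q hp hq =>
    rw [map_add, LinearMap.add_apply, hp, hq, ← map_add]
    congr 1
    rw [map_add, map_add, eval_add, LinearMap.add_apply, add_mul, add_smul]
    rfl
  | monomial n a =>
    rw [aeval_monomial, aeval_monomial, aeval_monomial, eval_monomial, one_pow, mul_one, Module.End.mul_apply, key,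
      Module.algebraMap_end_apply, ← map_smul, Module.End.mul_apply, Module.algebraMap_end_apply]
    congr 1
    rw [Prod.smul_mk, Prod.smul_mk, Algebra.smul_def, mul_assoc]

/-- the form and the polynomials -/
theorem L_aeval (S : Dat e u θ τ L) {uD : D →ₗ[F] D}
    (hu : ∀ x d v, u (e.symm (x, d, v)) = e.symm (θ * x, uD d, v)) (hθ : θ ≠ 0) (f : F[X]) (x : K) (d : D) :
    L (e.symm (x, 0, 0)) (e.symm (0, aeval uD (f.map τ) d, 0)) =
      L (e.symm (aeval θ⁻¹ f * x, 0, 0)) (e.symm (0, d, 0)) := by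
  have h0 : ∀ y, L 0 y = 0 := by
    intro y
    have h1 := S.add_left 0 0 y
    rw [add_zero] at h1
    simpa using h1
  have h0' : ∀ y, L y 0 = 0 := by
    intro y
    have h1 := S.add_right y 0 0
    rw [add_zero] at h1
    simpa using h1
  have h1 : ∀ (x : K) (d : D), L (e.symm (x, 0, 0)) (e.symm (0, uD d, 0)) =
      L (e.symm (θ⁻¹ * x, 0, 0)) (e.symm (0, d, 0)) := by
    intro x d
    rw [← S.pres (e.symm (θ⁻¹ * x, 0, 0)), hu, hu, mul_inv_cancel_left₀ hθ, mul_zero, map_zero]
  have h2 : ∀ (n : ℕ) (x : K) (d : D), L (e.symm (x, 0, 0)) (e.symm (0, (uD ^ n) d, 0)) =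
      L (e.symm (θ⁻¹ ^ n * x, 0, 0)) (e.symm (0, d, 0)) := by
    intro n
    induction n with
    | zero => intro x d; simp
    | succ n ih =>
      intro x d
      rw [pow_succ, Module.End.mul_apply, ih, h1, pow_succ']
      congr 2
      rw [mul_assoc]
  induction f using Polynomial.induction_on' with
  | add p q hp hq =>
    have e1 : (e.symm (0, aeval uD ((p + q).map τ) d, 0) : V) =
        e.symm (0, aeval uD (p.map τ) d, 0) + e.symm (0, aeval uD (q.map τ) d, 0) := by
      rw [← map_add]
      congr 1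
      simp
    have e2 : (e.symm (aeval θ⁻¹ (p + q) * x, 0, 0) : V) =
        e.symm (aeval θ⁻¹ p * x, 0, 0) + e.symm (aeval θ⁻¹ q * x, 0, 0) := by
      rw [← map_add]
      congr 1
      simp [add_mul]
    rw [e1, e2, S.add_right, S.add_left, hp, hq]
  | monomial n a =>
    rw [Polynomial.map_monomial, aeval_monomial, aeval_monomial, Module.End.mul_apply, Module.algebraMap_end_apply]
    have e1 : (e.symm (0, τ a • (uD ^ n) d, 0) : V) = τ a • e.symm (0, (uD ^ n) d, 0) := by
      have h3 := map_smul e.symm (τ a) ((0 : K), (uD ^ n) d, (0 : V₀))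
      rw [Prod.smul_mk, Prod.smul_mk, smul_zero, smul_zero] at h3
      exact h3
    have e2 : (e.symm (algebraMap F K a * θ⁻¹ ^ n * x, 0, 0) : V) = a • e.symm (θ⁻¹ ^ n * x, 0, 0) := by
      rw [← map_smul]
      congr 1
      rw [Prod.smul_mk, Prod.smul_mk, smul_zero, smul_zero, Algebra.smul_def, mul_assoc]
    rw [e1, e2, S.smul_right, S.smul_left, h2]

/-- **The centralizer of a Singer element.** -/
theorem card_le [Finite K] [Finite V₀] (S : Dat e u θ τ L) (hθ0 : θ ≠ 0) (hθ1 : θ ≠ 1)
    (hgen : ∀ x : K, ∃ f : F[X], aeval θ f = x) (h2 : aeval θ ((minpoly F θ⁻¹).map τ) ≠ 0)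
    (C : Set (V ≃ₗ[F] V)) (hC : ∀ g ∈ C, (∀ x, g (u x) = u (g x)) ∧ ∀ x y, L (g x) (g y) = L x y) :
    Nat.card C ≤ Nat.card K * Nat.card (V₀ →ₗ[F] V₀) := by
  classical
  obtain ⟨uD, hu⟩ := S.ex
  have : Module.Finite F K := Module.Finite.of_finite
  have hint : ∀ x : K, IsIntegral F x := fun x => Algebra.IsIntegral.isIntegral x
  set f1 := minpoly F θ with hf1
  set f2 := (minpoly F θ⁻¹).map τ with hf2
  have h0 : ∀ y, L 0 y = 0 := by
    intro y
    have h1 := S.add_left 0 0 y
    rw [add_zero] at h1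
    simpa using h1
  have hD : ∀ d, aeval uD f2 d = 0 := by
    intro d
    refine S.nondeg _ fun x => ?_
    rw [L_aeval S hu hθ0, minpoly.aeval, zero_mul]
    have : (e.symm ((0 : K), (0 : D), (0 : V₀)) : V) = 0 := map_zero _
    rw [this, h0]
  have hcop : IsCoprime f1 f2 := by
    rw [(minpoly.irreducible (hint θ)).coprime_iff_not_dvd]
    intro h
    exact h2 ((minpoly.dvd_iff).1 h)
  obtain ⟨a1, a2, ha⟩ := hcop
  have hDf1 : ∀ d, aeval uD f1 d = 0 → d = 0 := by
    intro d hd
    have h1 := congrArg (fun f => aeval uD f d) ha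
    simp only [map_add, map_mul, LinearMap.add_apply, Module.End.mul_apply, hd, hD, map_zero, add_zero,
      map_one, Module.End.one_apply] at h1
    exact h1.symm
  have hf1e : f1.eval 1 ≠ 0 := by
    intro h
    have h1 := minpoly.root (hint θ) h
    rw [map_one] at h1
    exact hθ1 h1.symm
  have hf2e : f2.eval 1 ≠ 0 := by
    intro h
    have h3 : f2.eval 1 = τ ((minpoly F θ⁻¹).eval 1) := by
      rw [hf2, ← map_one τ, Polynomial.eval_map_apply, map_one]
    rw [h3] at h
    have h4 := (map_eq_zero τ).1 h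
    have h1 := minpoly.root (hint θ⁻¹) h4
    rw [map_one] at h1
    exact hθ1 (by rw [← inv_inv θ, ← h1, inv_one])
  have hcomm : ∀ g ∈ C, ∀ (f : F[X]) (x : V), aeval u f (g x) = g (aeval u f x) := by
    intro g hg f x
    have h1 : Commute (g : V →ₗ[F] V) u := LinearMap.ext fun y => (hC g hg).1 y
    have h3 : Commute (g : V →ₗ[F] V) (aeval u f) := by
      induction f using Polynomial.induction_on' with
      | add p q hp hq => rw [map_add]; exact hp.add_right hq
      | monomial n a =>
        rw [aeval_monomial]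
        exact (Algebra.commute_algebraMap_right a _).mul_right (h1.pow_right n)
    exact (LinearMap.congr_fun h3 x).symm
  have hgK : ∀ g ∈ C, ∀ x : K, ∃ x' : K, g (e.symm (x, 0, 0)) = e.symm (x', 0, 0) := by
    intro g hg x
    obtain ⟨⟨a, b, c⟩, habc⟩ := e.symm.surjective (g (e.symm (x, 0, 0)))
    have h1 := hcomm g hg f1 (e.symm (x, 0, 0))
    rw [aeval_apply hu f1, hf1, minpoly.aeval, zero_mul, map_zero, smul_zero, ← hf1, ← habc, aeval_apply hu] at h1
    have h3 : (e.symm ((0 : K), (0 : D), (0 : V₀)) : V) = 0 := map_zero _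
    rw [h3, map_zero, ← h3, e.symm.injective.eq_iff, Prod.mk.injEq, Prod.mk.injEq] at h1
    have hb := hDf1 b h1.2.1
    have hc := (smul_eq_zero.1 h1.2.2).resolve_left hf1e
    exact ⟨a, by rw [← habc, hb, hc]⟩
  have hgD : ∀ g ∈ C, ∀ d : D, ∃ d' : D, g (e.symm (0, d, 0)) = e.symm (0, d', 0) := by
    intro g hg d
    obtain ⟨⟨a, b, c⟩, habc⟩ := e.symm.surjective (g (e.symm (0, d, 0)))
    have h1 := hcomm g hg f2 (e.symm (0, d, 0))
    rw [aeval_apply hu f2, hD, mul_zero, smul_zero, ← habc, aeval_apply hu] at h1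
    have h3 : (e.symm ((0 : K), (0 : D), (0 : V₀)) : V) = 0 := map_zero _
    rw [h3, map_zero, ← h3, e.symm.injective.eq_iff, Prod.mk.injEq, Prod.mk.injEq] at h1
    have ha' := (mul_eq_zero.1 h1.1).resolve_left h2
    have hc := (smul_eq_zero.1 h1.2.2).resolve_left hf2e
    exact ⟨b, by rw [← habc, ha', hc]⟩
  have hgV : ∀ g ∈ C, ∀ v : V₀, ∃ v' : V₀, g (e.symm (0, 0, v)) = e.symm (0, 0, v') := by
    intro g hg v
    obtain ⟨⟨a, b, c⟩, habc⟩ := e.symm.surjective (g (e.symm (0, 0, v)))
    have h1 := (hC g hg).1 (e.symm (0, 0, v))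
    rw [hu, mul_zero, map_zero, ← habc, hu, e.symm.injective.eq_iff, Prod.mk.injEq, Prod.mk.injEq] at h1
    have ha' : a = 0 := by
      have h3 : (θ - 1) * a = 0 := by rw [sub_mul, ← h1.1, one_mul, sub_self]
      exact (mul_eq_zero.1 h3).resolve_left (sub_ne_zero.2 hθ1)
    have hb' : ∀ f : F[X], aeval uD f b = f.eval 1 • b := by
      intro f
      have h3 : ∀ n : ℕ, (uD ^ n) b = b := by
        intro n
        induction n with
        | zero => rfl
        | succ n ih => rw [pow_succ, Module.End.mul_apply, ← h1.2.1, ih]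
      induction f using Polynomial.induction_on' with
      | add p q hp hq => rw [map_add, LinearMap.add_apply, hp, hq, eval_add, add_smul]
      | monomial n a => rw [aeval_monomial, Module.End.mul_apply, h3, Module.algebraMap_end_apply, eval_monomial,
          one_pow, mul_one]
    have hb : b = 0 := by
      have h3 := hb' f2
      rw [hD] at h3
      exact (smul_eq_zero.1 h3.symm).resolve_left hf2e
    exact ⟨c, by rw [← habc, ha', hb]⟩
  let Φ : C → K × (V₀ →ₗ[F] V₀) := fun g => ((e (g.1 (e.symm (1, 0, 0)))).1,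
    { toFun := fun v => (e (g.1 (e.symm (0, 0, v)))).2.2
      map_add' := fun v w => by
        have : (e.symm ((0 : K), (0 : D), v + w) : V) = e.symm (0, 0, v) + e.symm (0, 0, w) := by
          rw [← map_add]; simp
        rw [this, map_add, map_add]; rfl
      map_smul' := fun a v => by
        have : (e.symm ((0 : K), (0 : D), a • v) : V) = a • e.symm (0, 0, v) := by
          rw [← map_smul]; simp
        rw [this, map_smul, map_smul]; rfl })
  have : Finite (V₀ →ₗ[F] V₀) := Finite.of_injective (fun f => (f : V₀ → V₀)) DFunLike.coe_injective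
  have hinj : Function.Injective Φ := by
    rintro ⟨g, hg⟩ ⟨k, hk⟩ hgk
    rw [Prod.mk.injEq] at hgk
    obtain ⟨hgk1, hgk2⟩ := hgk
    have e1 : g (e.symm (1, 0, 0)) = k (e.symm (1, 0, 0)) := by
      obtain ⟨x, hx⟩ := hgK g hg 1
      obtain ⟨y, hy⟩ := hgK k hk 1
      change (e (g (e.symm (1, 0, 0)))).1 = (e (k (e.symm (1, 0, 0)))).1 at hgk1
      rw [hx, hy, LinearEquiv.apply_symm_apply, LinearEquiv.apply_symm_apply] at hgk1
      rw [hx, hy]
      exact congrArg (fun z => e.symm (z, 0, 0)) hgk1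
    have e2 : ∀ x : K, g (e.symm (x, 0, 0)) = k (e.symm (x, 0, 0)) := by
      intro x
      obtain ⟨f, rfl⟩ := hgen x
      have h1 := aeval_apply hu f 1 0 0
      rw [mul_one, map_zero, smul_zero] at h1
      rw [← h1, ← hcomm g hg, ← hcomm k hk, e1]
    have e3 : ∀ v : V₀, g (e.symm (0, 0, v)) = k (e.symm (0, 0, v)) := by
      intro v
      obtain ⟨x, hx⟩ := hgV g hg v
      obtain ⟨y, hy⟩ := hgV k hk v
      have h1 : (e (g (e.symm (0, 0, v)))).2.2 = (e (k (e.symm (0, 0, v)))).2.2 := LinearMap.congr_fun hgk2 v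
      rw [hx, hy, LinearEquiv.apply_symm_apply, LinearEquiv.apply_symm_apply] at h1
      rw [hx, hy]
      exact congrArg (fun z => e.symm (0, 0, z)) h1
    have e4 : ∀ d : D, g (e.symm (0, d, 0)) = k (e.symm (0, d, 0)) := by
      intro d
      obtain ⟨x, hx⟩ := hgD g hg d
      obtain ⟨y, hy⟩ := hgD k hk d
      have h1 : x - y = 0 := by
        refine S.nondeg _ fun z => ?_
        choose φ hφ using hgK g hg
        have hφi : Function.Injective φ := by
          intro a b hab
          have h3 : g (e.symm (a, 0, 0)) = g (e.symm (b, 0, 0)) := by rw [hφ, hφ, hab]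
          have h4 := e.symm.injective (g.injective h3)
          exact (Prod.mk.inj h4).1
        obtain ⟨z0, rfl⟩ := Finite.surjective_of_injective hφi z
        have h4 := (hC g hg).2 (e.symm (z0, 0, 0)) (e.symm (0, d, 0))
        have h5 := (hC k hk).2 (e.symm (z0, 0, 0)) (e.symm (0, d, 0))
        rw [← e2, hy, hφ] at h5
        rw [hx, hφ] at h4
        have h6 : (e.symm ((0 : K), x, (0 : V₀)) : V) = e.symm (0, x - y, 0) + e.symm (0, y, 0) := by
          rw [← map_add]; simp
        rw [h6, S.add_right, h5] at h4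
        simpa using h4
      rw [hx, hy, sub_eq_zero.1 h1]
    apply Subtype.ext
    apply LinearEquiv.ext
    intro v
    obtain ⟨⟨a, b, c⟩, rfl⟩ := e.symm.surjective v
    have h1 : (e.symm (a, b, c) : V) = e.symm (a, 0, 0) + (e.symm (0, b, 0) + e.symm (0, 0, c)) := by
      rw [← map_add, ← map_add]; simp
    rw [h1, map_add, map_add, map_add, map_add, e2, e3, e4]
  have h3 := Nat.card_le_card_of_injective Φ hinj
  rwa [Nat.card_prod] at h3

end Bound

end Cfsg.Agent.H674.BD.Singer
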