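import Cfsg.Agent.H674.BD.Singer

/-!
# The generator of a Singer element (helper674)

`exists_theta` : `K / F` finite fields, `[K : F] ≥ 2`, `|K| > 9`: `θ = ξ ^ 2`, `ξ` a generator of `Kˣ`, generates `K`
over `F` and is not mapped to its inverse by an automorphism of `K`.
-/

set_option autoImplicit false

namespace Cfsg.Agent.H674.BD.Singer

open Polynomial

section Theta

variable {K : Type*} [Field K] [Finite K]

/-- no power of the Frobenius map inverts an element of large order -/
theorem pow_ne_one {r s : ℕ} (hr : 2 ≤ r) (hs : Nat.card K = r ^ s) {θ : K} (h0 : θ ≠ 0)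
    (h2 : Nat.card K - 1 ≤ 2 * orderOf θ) (h9 : 9 < Nat.card K) (n : ℕ) : θ ^ (r ^ n) ≠ θ⁻¹ := by
  have hpow : θ ^ (r ^ s) = θ := by
    rw [← hs]
    have : Fintype K := Fintype.ofFinite K
    rw [Nat.card_eq_fintype_card]
    exact FiniteField.pow_card θ
  have hs0 : 0 < s := by
    rcases Nat.eq_zero_or_pos s with h | h
    · rw [h, pow_zero] at hs; omega
    · exact h
  have hmod : ∀ m : ℕ, θ ^ (r ^ m) = θ ^ (r ^ (m % s)) := by
    intro m
    have h1 : ∀ k : ℕ, θ ^ (r ^ (s * k)) = θ := by
      intro k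
      induction k with
      | zero => rw [mul_zero, pow_zero, pow_one]
      | succ k ih => rw [mul_add, mul_one, pow_add, pow_mul, ih, hpow]
    conv_lhs => rw [← Nat.div_add_mod m s, pow_add, pow_mul, h1]
  have key : ∀ k : ℕ, 2 * k ≤ s → θ ^ (r ^ k) ≠ θ⁻¹ := by
    intro k hk h
    have h1 : θ ^ (r ^ k + 1) = 1 := by
      rw [pow_succ, h, inv_mul_cancel₀ h0]
    have h3 := Nat.le_of_dvd (Nat.succ_pos _) (orderOf_dvd_of_pow_eq_one h1)
    have h4 : (r ^ k) * (r ^ k) ≤ Nat.card K := by
      rw [hs, ← pow_add]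
      exact Nat.pow_le_pow_right (by omega) (by omega)
    set t := r ^ k
    have h5 : t * t ≤ 2 * t + 3 := by omega
    have h6 : t ≤ 3 := by
      by_contra hcon
      push Not at hcon
      nlinarith
    omega
  intro h
  rw [hmod] at h
  set k := n % s
  have hk : k < s := Nat.mod_lt _ hs0
  by_cases h3 : 2 * k ≤ s
  · exact key k h3 h
  · refine key (s - k) (by omega) ?_
    have h4 : (θ ^ (r ^ k)) ^ (r ^ (s - k)) = θ := by
      rw [← pow_mul, ← pow_add, Nat.add_sub_cancel' hk.le, hpow]
    rw [h, inv_pow] at h4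
    exact inv_eq_iff_eq_inv.1 h4

variable {F : Type*} [Field F] [Finite F] [Algebra F K]

theorem adjoin_top (hm : 2 ≤ Module.finrank F K) {θ : K} (h0 : θ ≠ 0)
    (h2 : Nat.card K - 1 ≤ 2 * orderOf θ) (x : K) : ∃ f : F[X], aeval θ f = x := by
  have : Module.Finite F K := Module.Finite.of_finite
  have hint : IsIntegral F θ := Algebra.IsIntegral.isIntegral θ
  set A := IntermediateField.adjoin F {θ} with hA
  have hθA : θ ∈ A := IntermediateField.mem_adjoin_simple_self F θ
  have htop : A = ⊤ := by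
    by_contra hne
    have h3 : Module.finrank F A * Module.finrank A K = Module.finrank F K := Module.finrank_mul_finrank F A K
    have h4 : 2 ≤ Module.finrank A K := by
      by_contra hcon
      push Not at hcon
      have h5 : 0 < Module.finrank A K := Module.finrank_pos
      have h6 : Module.finrank A K = 1 := by omega
      exact hne (IntermediateField.finrank_eq_one_iff_eq_top.1 h6)
    have h5 : Nat.card K = Nat.card A ^ Module.finrank A K := Module.natCard_eq_pow_finrank
    have h6 : Nat.card A ^ 2 ≤ Nat.card K := by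
      rw [h5]
      exact Nat.pow_le_pow_right Nat.card_pos h4
    have h7 : orderOf θ ≤ Nat.card A - 1 := by
      let y : A := ⟨θ, hθA⟩
      have hy : y ≠ 0 := fun h => h0 (congrArg Subtype.val h)
      have h8 : orderOf θ = orderOf (Units.mk0 y hy) := by
        rw [← orderOf_units, Units.val_mk0]
        exact (orderOf_injective ((algebraMap A K : A →+* K) : A →* K) (algebraMap A K).injective y)
      rw [h8, ← Nat.card_units]
      exact orderOf_le_card
    have h8 : 1 < Nat.card A := Finite.one_lt_card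
    obtain ⟨t, ht⟩ : ∃ t, Nat.card A = t + 1 := ⟨Nat.card A - 1, by omega⟩
    rw [ht] at h6 h7 h8
    have h9 : (t + 1) ^ 2 - 1 ≤ 2 * t := by omega
    have h10 : (t + 1) ^ 2 = t * t + 2 * t + 1 := by ring
    have h11 : 0 < t * t := Nat.mul_pos (by omega) (by omega)
    omega
  have hx : x ∈ A := by rw [htop]; exact IntermediateField.mem_top
  rw [hA, ← IntermediateField.mem_toSubalgebra,
    IntermediateField.adjoin_simple_toSubalgebra_of_isAlgebraic hint.isAlgebraic, Algebra.adjoin_singleton_eq_range_aeval] at hx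
  obtain ⟨f, hf⟩ := hx
  exact ⟨f, hf⟩

theorem aeval_map_ne {r s : ℕ} [CharP F r] [hr : Fact r.Prime] (hs : Nat.card K = r ^ s) {θ : K} (h0 : θ ≠ 0)
    (h2 : Nat.card K - 1 ≤ 2 * orderOf θ) (h9 : 9 < Nat.card K) {τ : F →+* F} {j : ℕ} (hτ : ∀ a, τ a = a ^ r ^ j) :
    aeval θ ((minpoly F θ⁻¹).map τ) ≠ 0 := by
  have : Module.Finite F K := Module.Finite.of_finite
  have : CharP K r := charP_of_injective_algebraMap (algebraMap F K).injective r
  intro h
  obtain ⟨y, hy⟩ : ∃ y : K, y ^ r ^ j = θ := by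
    have h1 : Function.Injective (fun y : K => y ^ r ^ j) := iterateFrobenius_inj K r j
    exact Finite.surjective_of_injective h1 θ
  have h3 : ∀ f : F[X], aeval (y ^ r ^ j) (f.map τ) = (aeval y f) ^ r ^ j := by
    intro f
    induction f using Polynomial.induction_on' with
    | add p q hp hq =>
      rw [Polynomial.map_add, map_add, map_add, hp, hq, add_pow_char_pow]
    | monomial n a =>
      rw [Polynomial.map_monomial, aeval_monomial, aeval_monomial, hτ, map_pow, mul_pow, ← pow_mul, ← pow_mul,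
        mul_comm n]
  rw [← hy, h3, pow_eq_zero_iff (pow_ne_zero _ hr.out.ne_zero), hy] at h
  have : Fintype F := Fintype.ofFinite F
  obtain ⟨σ, hσ⟩ := minpoly.exists_algEquiv_of_root' (Algebra.IsIntegral.isIntegral (R := F) θ⁻¹).isAlgebraic h
  obtain ⟨⟨i, hi⟩, rfl⟩ := (FiniteField.bijective_frobeniusAlgEquivOfAlgebraic_pow F K).2 σ
  have h5 : (FiniteField.frobeniusAlgEquivOfAlgebraic F K ^ i) θ⁻¹ = θ⁻¹ ^ (Fintype.card F ^ i) := by
    rw [AlgEquiv.coe_pow, FiniteField.coe_frobeniusAlgEquivOfAlgebraic_iterate]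
  have h6 : θ⁻¹ ^ (Fintype.card F ^ i) = y := by
    rw [← h5]
    exact hσ
  obtain ⟨k, -, hk⟩ := FiniteField.card F r
  refine pow_ne_one hr.out.two_le hs h0 h2 h9 (k * i + j) ?_
  have h7 : θ⁻¹ ^ (r ^ ((k : ℕ) * i + j)) = θ := by
    rw [pow_add, pow_mul, pow_mul, ← hk, h6, hy]
  rw [inv_pow] at h7
  exact inv_eq_iff_eq_inv.1 h7

end Theta

end Cfsg.Agent.H674.BD.Singer
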